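import Cfsg.Agent.H546.S8.Base

/-!
# S4908, CHIEF: no small modules (helper546)
-/

set_option autoImplicit false

namespace Cfsg.Agent.H546.S8

/-- primality -/
def isP (r : ℕ) : Bool := Nat.ble 2 r && (List.range r).all fun d => Nat.ble d 1 || !(Nat.beq (r % d) 0)

theorem isP_of {r : ℕ} (hr : r.Prime) : isP r = true := by
  unfold isP
  rw [Bool.and_eq_true, List.all_eq_true]
  refine ⟨by rw [Nat.ble_eq]; exact hr.two_le, fun d hd => ?_⟩
  rw [List.mem_range] at hd
  rw [Bool.or_eq_true, Nat.ble_eq, Bool.not_eq_true', ← Bool.not_eq_true, Nat.beq_eq]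
  by_contra hcon
  push Not at hcon
  obtain ⟨h1, h2⟩ := hcon
  have h3 : d ∣ r := Nat.dvd_of_mod_eq_zero h2
  rcases (Nat.dvd_prime hr).1 h3 with h | h <;> omega

/-- the test: `N` divides no `|GL_n(r)|` with `r ^ n ≤ B`, `m < n`, `r0 ≤ r`; extra condition `e r n` -/
def chkS (N B m R L : ℕ) (e : ℕ → ℕ → Bool) : Bool :=
  (List.range (R + 1)).all fun r => !(isP r) || (List.range (L + 1)).all fun n =>
    Nat.ble n m || Nat.blt B (r ^ n) || !(Nat.beq (gl r n % N) 0) || e r n

theorem gl_le (r n : ℕ) : gl r n ≤ (r ^ n) ^ n := by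
  rw [gl, prod_map_range]
  calc ∏ i ∈ Finset.range n, (r ^ n - r ^ i) ≤ ∏ _i ∈ Finset.range n, r ^ n :=
        Finset.prod_le_prod' fun i _ => Nat.sub_le _ _
    _ = (r ^ n) ^ n := by rw [Finset.prod_const, Finset.card_range]

theorem gl_pos {r : ℕ} (hr : r.Prime) (n : ℕ) : 0 < gl r n := by
  have := Fact.mk hr
  rw [← card_gl]
  exact Nat.card_pos

theorem of_chkS {N B m R L : ℕ} {e : ℕ → ℕ → Bool} (h : chkS N B m R L e = true) (hB : B ^ m < N)
    (hB1 : 1 ≤ B) (hR : B < (R + 1) ^ (m + 1)) (hL : B < 2 ^ (L + 1)) {r n : ℕ} (hr : r.Prime) (hrn : r ^ n ≤ B)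
    (hN : N ∣ gl r n) : e r n = true := by
  have h1 : N ≤ gl r n := Nat.le_of_dvd (gl_pos hr n) hN
  have hmn : m < n := by
    by_contra hlt
    push Not at hlt
    have h2 : gl r n ≤ B ^ m :=
      (gl_le r n).trans ((Nat.pow_le_pow_left hrn n).trans (Nat.pow_le_pow_right hB1 hlt))
    omega
  have hrR : r < R + 1 := by
    by_contra hlt
    push Not at hlt
    have h2 : (R + 1) ^ (m + 1) ≤ r ^ n :=
      (Nat.pow_le_pow_left hlt (m + 1)).trans (Nat.pow_le_pow_right hr.pos (by omega))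
    omega
  have hnL : n < L + 1 := by
    by_contra hlt
    push Not at hlt
    have h2 : 2 ^ (L + 1) ≤ r ^ n :=
      (Nat.pow_le_pow_right (by norm_num) hlt).trans (Nat.pow_le_pow_left hr.two_le n)
    omega
  unfold chkS at h
  rw [List.all_eq_true] at h
  have h3 := h r (List.mem_range.2 hrR)
  rw [isP_of hr, Bool.not_true, Bool.false_or, List.all_eq_true] at h3
  have h4 := h3 n (List.mem_range.2 hnL)
  simp only [Bool.or_eq_true, Nat.ble_eq, Bool.not_eq_true', Nat.blt_eq] at h4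
  rcases h4 with ((h4 | h4) | h4) | h4
  · omega
  · omega
  · rw [← Bool.not_eq_true, Nat.beq_eq] at h4
    exact absurd (Nat.mod_eq_zero_of_dvd hN) h4
  · exact h4

end Cfsg.Agent.H546.S8
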