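import Cfsg.Agent.H546.S8.Ext
import Cfsg.Agent.H546.S8.Small

/-!
# S4908, CHIEF: transport, class numbers from a list (helper546)
-/

set_option autoImplicit false

namespace Cfsg.Agent.H546.S8

open Cfsg Subgroup Cfsg.Agent.H704.S8

universe u v w

/-- the transport of `Chief` -/
theorem chief_congr {c : ℕ} {D : Set ℕ} {X : Type v} [Group X] {Y : Type w} [Group Y] (e : X ≃* Y)
    (h : Chief.{u} c D X) : Chief.{u} c D Y := by
  intro Λ _ _ ρ hT
  refine h Λ (ρ.comp e.toMonoidHom) fun x hx => ?_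
  obtain ⟨T, hT1, hT2, hT3, d, hd, hT4⟩ := hT x hx
  have hc : Nat.card (T.comap e.toMonoidHom) = Nat.card T := by
    refine Nat.card_congr ⟨fun y => ⟨e y, y.2⟩, fun y => ⟨e.symm y, ?_⟩, fun y => ?_, fun y => ?_⟩
    · show e (e.symm (y : Y)) ∈ T
      rw [e.apply_symm_apply]
      exact y.2
    · exact Subtype.ext (e.symm_apply_apply _)
    · exact Subtype.ext (e.apply_symm_apply _)
  have hE : Nonempty (T.comap e.toMonoidHom ≃* T) := by
    refine ⟨⟨⟨fun y => ⟨e y, y.2⟩, fun y => ⟨e.symm y, ?_⟩, fun y => ?_, fun y => ?_⟩, fun y z => ?_⟩⟩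
    · show e (e.symm (y : Y)) ∈ T
      rw [e.apply_symm_apply]
      exact y.2
    · exact Subtype.ext (e.symm_apply_apply _)
    · exact Subtype.ext (e.apply_symm_apply _)
    · exact Subtype.ext (map_mul e _ _)
  obtain ⟨f⟩ := hE
  have hk : Nat.card (ConjClasses (T.comap e.toMonoidHom)) = Nat.card (ConjClasses T) := by
    refine Nat.card_congr ⟨ConjClasses.map f.toMonoidHom, ConjClasses.map f.symm.toMonoidHom, ?_, ?_⟩
    · intro a
      refine Quotient.inductionOn a fun x => ?_
      show ConjClasses.mk (f.symm (f x)) = ConjClasses.mk x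
      rw [f.symm_apply_apply]
    · intro a
      refine Quotient.inductionOn a fun x => ?_
      show ConjClasses.mk (f (f.symm x)) = ConjClasses.mk x
      rw [f.apply_symm_apply]
  refine ⟨T.comap e.toMonoidHom, fun g => hT1 (e g), ?_, ?_, d, hd, ?_⟩
  · intro htop
    apply hT2
    rw [Subgroup.eq_top_iff']
    intro y
    have h1 : e.symm y ∈ T.comap e.toMonoidHom := by rw [htop]; exact mem_top _
    have h2 : e (e.symm y) ∈ T := h1
    rwa [e.apply_symm_apply] at h2
  · rw [hc, hk, Nat.card_congr e.toEquiv]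
    exact hT3
  · rw [Subgroup.index_comap_of_surjective T e.surjective]
    exact hT4

/-- an upper bound of the class number from a list of representatives -/
theorem classes_le {G : Type v} [Group G] (l : List G) (h : ∀ g : G, ∃ x ∈ l, IsConj g x) :
    Nat.card (ConjClasses G) ≤ l.length := by
  have h1 : Function.Surjective (fun i : Fin l.length => ConjClasses.mk (l.get i)) := by
    intro a
    refine Quotient.inductionOn a fun g => ?_
    obtain ⟨x, hx, hc⟩ := h g
    obtain ⟨i, hi⟩ := List.get_of_mem hx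
    refine ⟨i, ?_⟩
    show ConjClasses.mk (l.get i) = ConjClasses.mk g
    rw [hi]
    exact (ConjClasses.mk_eq_mk_iff_isConj.2 hc).symm
  have h2 := Nat.card_le_card_of_surjective _ h1
  rwa [Nat.card_fin] at h2

/-- generation by `s` conjugates -/
theorem noAdm_of_top {X : Type v} [Group X] [Finite X] {c : ℕ} {D : Set ℕ} {s : ℕ} {g : X}
    (h : ∃ f : Fin s → X, closure (Set.range fun i => f i * g * (f i)⁻¹) = ⊤) : NoAdm c D s g := by
  obtain ⟨f, hf⟩ := h
  refine ⟨f, fun T hT hA => hA.1 ?_⟩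
  rw [eq_top_iff, ← hf, closure_le]
  rintro _ ⟨i, rfl⟩
  exact hT i

/-- a subgroup of order divisible by `p` -/
theorem noAdm_of_dvd {X : Type v} [Group X] [Finite X] {c : ℕ} {D : Set ℕ} {s : ℕ} {g : X} {p : ℕ}
    (h : ∃ f : Fin s → X, p ∣ Nat.card (closure (Set.range fun i => f i * g * (f i)⁻¹)))
    (hp : ∀ T : Subgroup X, p ∣ Nat.card T → ¬ Adm c D T) : NoAdm c D s g := by
  obtain ⟨f, hf⟩ := h
  refine ⟨f, fun T hT => hp T (hf.trans (Subgroup.card_dvd_of_le ?_))⟩
  rw [closure_le]
  rintro _ ⟨i, rfl⟩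
  exact hT i

end Cfsg.Agent.H546.S8
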