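import Cfsg.Agent.H546.S8.Count
import Cfsg.Agent.Lib.ElemAbGL

/-!
# S4908, CHIEF by counting: the engine (helper546)

* `Sit` : an elementary abelian `r`-group `Λ ≠ 1` on which `X` acts as in `Chief`;
* `chief_of_sit` : `Chief` if there is no such situation;
* `Sit.le_pow` : `|Λ| ≤ |Λ : C_Λ(g)| ^ s` if no admissible proper subgroup contains the `s` conjugates of `g`;
* `Sit.big` : no situation with `(q - 1) ^ s < |Λ|`, `c (q + k(X) |X|) ≤ q |X|`;
* `Sit.dvd` : `|X|` divides `|GL_n(r)|`, `|Λ| = r ^ n`.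
-/

set_option autoImplicit false
set_option linter.unusedSectionVars false
set_option linter.style.haveILetI false

namespace Cfsg.Agent.H546.S8

open Cfsg Subgroup Cfsg.Agent.H704.S8

universe u v

variable {X : Type v} [Group X] [Finite X]

/-- the admissible stabilisers -/
def Adm (c : ℕ) (D : Set ℕ) (T : Subgroup X) : Prop :=
  T ≠ ⊤ ∧ Nat.card X < c * (Nat.card T * Nat.card (ConjClasses T)) ∧ ∃ d ∈ D, T.index ∣ d

/-- a counterexample to `Chief` -/
structure Sit (c : ℕ) (D : Set ℕ) (r : ℕ) (Λ : Type u) [CommGroup Λ] [Finite Λ] (ρ : X →* MulAut Λ) : Prop where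
  prime : r.Prime
  elem : ∀ x : Λ, x ^ r = 1
  ne : ∃ x : Λ, x ≠ 1
  stab : ∀ x : Λ, x ≠ 1 → ∃ T : Subgroup X, (∀ g : X, g ∈ T ↔ ρ g x = x) ∧ Adm c D T

/-- the elements of order dividing `r` -/
def Om (r : ℕ) (Λ : Type u) [CommGroup Λ] : Subgroup Λ := (powMonoidHom r : Λ →* Λ).ker

theorem mem_Om {r : ℕ} {Λ : Type u} [CommGroup Λ] {x : Λ} : x ∈ Om r Λ ↔ x ^ r = 1 := Iff.rfl

/-- the restriction of the action -/
def resAct (r : ℕ) {Λ : Type u} [CommGroup Λ] (ρ : X →* MulAut Λ) : X →* MulAut (Om r Λ) where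
  toFun g :=
    { toFun := fun x => ⟨ρ g x, by rw [mem_Om, ← map_pow, mem_Om.1 x.2, map_one]⟩
      invFun := fun x => ⟨(ρ g)⁻¹ x, by rw [mem_Om, ← map_pow, mem_Om.1 x.2, map_one]⟩
      left_inv := fun x => Subtype.ext (by simp)
      right_inv := fun x => Subtype.ext (by simp)
      map_mul' := fun x y => Subtype.ext (by simp) }
  map_one' := by
    ext x
    simp
  map_mul' g h := by
    ext x
    simp

theorem resAct_apply {r : ℕ} {Λ : Type u} [CommGroup Λ] {ρ : X →* MulAut Λ} (g : X) (x : Om r Λ) :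
    ((resAct r ρ g x : Om r Λ) : Λ) = ρ g x := rfl

theorem chief_of_sit {c : ℕ} {D : Set ℕ}
    (h : ∀ (r : ℕ) (Λ : Type u) [CommGroup Λ] [Finite Λ] (ρ : X →* MulAut Λ), Sit c D r Λ ρ → False) :
    Chief.{u} c D X := by
  intro Λ _ _ ρ hT x
  by_contra hx
  have h1 : Nat.card Λ ≠ 1 := by
    intro h1
    rw [Nat.card_eq_one_iff_unique] at h1
    haveI := h1.1
    exact hx (Subsingleton.elim _ _)
  obtain ⟨r, hr, hrd⟩ := Nat.exists_prime_and_dvd h1
  haveI := Fact.mk hr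
  obtain ⟨y, hy⟩ := exists_prime_orderOf_dvd_card' r hrd
  refine h r (Om r Λ) (resAct r ρ) ⟨hr, ?_, ?_, ?_⟩
  · intro z
    exact Subtype.ext (mem_Om.1 z.2)
  · refine ⟨⟨y, mem_Om.2 (by rw [← hy]; exact pow_orderOf_eq_one y)⟩, ?_⟩
    intro h2
    have h3 : y = 1 := congrArg Subtype.val h2
    rw [h3, orderOf_one] at hy
    exact hr.one_lt.ne hy
  · intro z hz
    obtain ⟨T, hT1, hT2, hT3, hT4⟩ := hT z (fun h2 => hz (Subtype.ext h2))
    refine ⟨T, fun g => ?_, hT2, hT3, hT4⟩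
    rw [hT1, Subtype.ext_iff]
    rfl

section

variable {c : ℕ} {D : Set ℕ} {r : ℕ} {Λ : Type u} [CommGroup Λ] [Finite Λ] {ρ : X →* MulAut Λ}

/-- the fixed points -/
def fixS (ρ : X →* MulAut Λ) (g : X) : Subgroup Λ where
  carrier := {x | ρ g x = x}
  one_mem' := map_one _
  mul_mem' := by
    intro x y hx hy
    show ρ g (x * y) = x * y
    rw [map_mul, show ρ g x = x from hx, show ρ g y = y from hy]
  inv_mem' := by
    intro x hx
    show ρ g x⁻¹ = x⁻¹
    rw [map_inv, show ρ g x = x from hx]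

omit [Finite X] [Finite Λ] in
theorem mem_fixS {g : X} {x : Λ} : x ∈ fixS ρ g ↔ ρ g x = x := Iff.rfl

omit [Finite X] in
theorem card_fix_conj (g a : X) : Nat.card (fixS ρ (a * g * a⁻¹)) = Nat.card (fixS ρ g) := by
  refine Nat.card_congr ⟨fun x => ⟨(ρ a)⁻¹ x, ?_⟩, fun x => ⟨ρ a x, ?_⟩, ?_, ?_⟩
  · have h : ρ (a * g * a⁻¹) (x : Λ) = x := x.2
    rw [map_mul, map_mul, map_inv] at h
    show ρ g ((ρ a)⁻¹ (x : Λ)) = (ρ a)⁻¹ (x : Λ)
    have h2 : ρ a (ρ g ((ρ a)⁻¹ (x : Λ))) = x := h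
    calc ρ g ((ρ a)⁻¹ (x : Λ)) = (ρ a)⁻¹ (ρ a (ρ g ((ρ a)⁻¹ (x : Λ)))) := by simp
      _ = (ρ a)⁻¹ (x : Λ) := by rw [h2]
  · have h : ρ g (x : Λ) = x := x.2
    show ρ (a * g * a⁻¹) (ρ a (x : Λ)) = ρ a (x : Λ)
    rw [map_mul, map_mul, map_inv]
    show ρ a (ρ g ((ρ a)⁻¹ (ρ a (x : Λ)))) = ρ a (x : Λ)
    have h2 : (ρ a)⁻¹ (ρ a (x : Λ)) = x := by simp
    rw [h2, h]
  · intro x
    apply Subtype.ext
    simp
  · intro x
    apply Subtype.ext
    simp

omit [Finite X] in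
theorem index_fix_conj (g a : X) : (fixS ρ (a * g * a⁻¹)).index = (fixS ρ g).index := by
  have h1 := (fixS ρ (a * g * a⁻¹)).card_mul_index
  have h2 := (fixS ρ g).card_mul_index
  rw [card_fix_conj] at h1
  exact Nat.eq_of_mul_eq_mul_left Nat.card_pos (h1.trans h2.symm)

/-- no admissible subgroup contains the conjugates `f i g f i⁻¹` -/
def NoAdm (c : ℕ) (D : Set ℕ) (s : ℕ) (g : X) : Prop :=
  ∃ f : Fin s → X, ∀ T : Subgroup X, (∀ i, f i * g * (f i)⁻¹ ∈ T) → ¬ Adm c D T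

omit [Finite X] in
theorem le_pow_of (g : X) {s : ℕ} (f : Fin s → X) (hf : ∀ x : Λ, (∀ i, ρ (f i * g * (f i)⁻¹) x = x) → x = 1) :
    Nat.card Λ ≤ (fixS ρ g).index ^ s := by
  have h1 : (⨅ i, fixS ρ (f i * g * (f i)⁻¹)) = ⊥ := by
    rw [Subgroup.eq_bot_iff_forall]
    intro x hx
    rw [Subgroup.mem_iInf] at hx
    exact hf x hx
  have h2 : (⨅ i, fixS ρ (f i * g * (f i)⁻¹)).index ≤ ∏ i, (fixS ρ (f i * g * (f i)⁻¹)).index :=
    Subgroup.index_iInf_le _
  rw [h1, Subgroup.index_bot] at h2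
  refine h2.trans (le_of_eq ?_)
  rw [Finset.prod_congr rfl fun i _ => index_fix_conj g (f i), Finset.prod_const, Finset.card_univ, Fintype.card_fin]

theorem Sit.le_pow (S : Sit c D r Λ ρ) {g : X} {s : ℕ} (h : NoAdm c D s g) : Nat.card Λ ≤ (fixS ρ g).index ^ s := by
  obtain ⟨f, hf⟩ := h
  refine le_pow_of g f fun x hx => ?_
  by_contra hx1
  obtain ⟨T, hT, hA⟩ := S.stab x hx1
  exact hf T (fun i => (hT _).2 (hx i)) hA

omit [Finite X] in
theorem fix_le_pow (g : X) (n : ℕ) : fixS ρ g ≤ fixS ρ (g ^ n) := by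
  intro x hx
  rw [mem_fixS] at hx ⊢
  induction n with
  | zero => rw [pow_zero, map_one]; rfl
  | succ n ih =>
    rw [pow_succ, map_mul]
    show ρ (g ^ n) (ρ g x) = x
    rw [hx, ih]

/-- **The counting engine.** -/
theorem Sit.big (S : Sit c D r Λ ρ) {s k q : ℕ} (hk : Nat.card (ConjClasses X) ≤ k)
    (hgen : ∀ g : X, (orderOf g).Prime → NoAdm c D s g) (hq : c * (q + k * Nat.card X) ≤ q * Nat.card X) (hq1 : 1 ≤ q)
    (hbig : (q - 1) ^ s < Nat.card Λ) : False := by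
  refine count (q := q) hk ρ S.ne (fun x hx => ?_) (fun g hg => ?_) hq
  · obtain ⟨T, hT, hA⟩ := S.stab x hx
    exact ⟨T, hT, hA.2.1⟩
  · have h0 : orderOf g ≠ 1 := fun h => hg (orderOf_eq_one_iff.1 h)
    obtain ⟨p, hp, hpd⟩ := Nat.exists_prime_and_dvd h0
    obtain ⟨m, hm⟩ := hpd
    have hm0 : m ≠ 0 := by
      rintro rfl
      exact (orderOf_pos g).ne' (by rw [hm, mul_zero])
    have h1 : orderOf (g ^ m) = p := by
      rw [orderOf_pow, hm, Nat.gcd_eq_right (dvd_mul_left m p), Nat.mul_div_cancel _ (Nat.pos_of_ne_zero hm0)]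
    have h2 := S.le_pow (hgen (g ^ m) (by rw [h1]; exact hp))
    have h3 : q ≤ (fixS ρ (g ^ m)).index := by
      by_contra hlt
      push Not at hlt
      have h4 : (fixS ρ (g ^ m)).index ≤ q - 1 := by omega
      exact absurd (h2.trans (Nat.pow_le_pow_left h4 s)) (not_le.2 hbig)
    have h5 : Nat.card (fixS ρ g) ≤ Nat.card (fixS ρ (g ^ m)) := Subgroup.card_le_of_le (fix_le_pow g m)
    calc q * Nat.card {x : Λ // ρ g x = x} = q * Nat.card (fixS ρ g) := rfl
      _ ≤ (fixS ρ (g ^ m)).index * Nat.card (fixS ρ (g ^ m)) := Nat.mul_le_mul h3 h5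
      _ = Nat.card Λ := (fixS ρ (g ^ m)).index_mul_card

/-- the order of `GL_n(r)` -/
def gl (r n : ℕ) : ℕ := ((List.range n).map fun i => r ^ n - r ^ i).prod

theorem prod_map_range (f : ℕ → ℕ) (n : ℕ) : ((List.range n).map f).prod = ∏ i ∈ Finset.range n, f i := by
  induction n with
  | zero => simp
  | succ n ih =>
    rw [List.range_succ, List.map_append, List.prod_append, ih, Finset.prod_range_succ]
    simp

theorem card_gl (r n : ℕ) [Fact r.Prime] : Nat.card (GL (Fin n) (ZMod r)) = gl r n := by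
  rw [Matrix.card_GL_field, ZMod.card, gl, prod_map_range, Finset.prod_range fun i => r ^ n - r ^ i]

/-- `|Λ| = r ^ n` -/
theorem Sit.exists_pow (S : Sit c D r Λ ρ) : ∃ n, 1 ≤ n ∧ Nat.card Λ = r ^ n := by
  haveI := Fact.mk S.prime
  have h1 : IsPGroup r Λ := fun x => ⟨1, by rw [pow_one]; exact S.elem x⟩
  obtain ⟨n, hn⟩ := IsPGroup.iff_card.1 h1
  refine ⟨n, ?_, hn⟩
  by_contra h0
  have h2 : n = 0 := by omega
  rw [h2, pow_zero, Nat.card_eq_one_iff_unique] at hn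
  obtain ⟨x, hx⟩ := S.ne
  haveI := hn.1
  exact hx (Subsingleton.elim _ _)

/-- the action is faithful if `X` is simple -/
theorem Sit.inj [IsSimpleGroup X] (S : Sit c D r Λ ρ) : Function.Injective ρ := by
  rw [← MonoidHom.ker_eq_bot_iff]
  rcases (inferInstance : ρ.ker.Normal).eq_bot_or_eq_top with h | h
  · exact h
  · exfalso
    obtain ⟨x, hx⟩ := S.ne
    obtain ⟨T, hT, hA⟩ := S.stab x hx
    apply hA.1
    rw [Subgroup.eq_top_iff']
    intro g
    rw [hT]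
    have h1 : g ∈ ρ.ker := by rw [h]; exact mem_top g
    rw [MonoidHom.mem_ker.1 h1]
    rfl

/-- `|X|` divides `|GL_n(r)|` -/
theorem Sit.dvd [IsSimpleGroup X] (S : Sit c D r Λ ρ) {n : ℕ} (hn : Nat.card Λ = r ^ n) : Nat.card X ∣ gl r n := by
  haveI := Fact.mk S.prime
  obtain ⟨e⟩ := Lib.ElemAbGL.mulAut_equiv_GL r n S.elem hn
  rw [← card_gl, ← Nat.card_congr e.toEquiv]
  rw [Nat.card_congr (MonoidHom.ofInjective S.inj).toEquiv]
  exact Subgroup.card_subgroup_dvd_card _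

/-- the index of a stabiliser is at most `|Λ| - 1` -/
theorem index_lt {x : Λ} (hx : x ≠ 1) {T : Subgroup X} (hT : ∀ g : X, g ∈ T ↔ ρ g x = x) :
    T.index < Nat.card Λ := by
  classical
  have h1 : Function.Injective (fun a : X ⧸ T => Quotient.liftOn' a (fun g : X => (⟨ρ g x, fun h => hx (by
      have : (ρ g)⁻¹ (ρ g x) = (ρ g)⁻¹ 1 := by rw [h]
      simpa using this)⟩ : {y : Λ // y ≠ 1})) (by
        intro g h hgh
        rw [QuotientGroup.leftRel_apply] at hgh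
        apply Subtype.ext
        show ρ g x = ρ h x
        have h2 := (hT _).1 hgh
        rw [map_mul, map_inv] at h2
        have h3 : ρ g ((ρ g)⁻¹ (ρ h x)) = ρ g x := congrArg (ρ g) h2
        rw [← h3]
        simp)) := by
    intro a b
    refine Quotient.inductionOn₂' a b fun g h hgh => ?_
    have h2 : ρ g x = ρ h x := congrArg Subtype.val hgh
    apply Quotient.sound'
    rw [QuotientGroup.leftRel_apply, hT, map_mul, map_inv]
    show (ρ g)⁻¹ (ρ h x) = x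
    rw [← h2]
    simp
  have h2 := Nat.card_le_card_of_injective _ h1
  have h3 : Nat.card {y : Λ // y ≠ 1} < Nat.card Λ := by
    haveI := Fintype.ofFinite Λ
    rw [Nat.card_eq_fintype_card, Nat.card_eq_fintype_card]
    exact Fintype.card_subtype_lt (x := (1 : Λ)) (fun h => h rfl)
  exact lt_of_le_of_lt h2 h3

end

end Cfsg.Agent.H546.S8
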