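import Cfsg.Agent.H704.S8.Defs

/-!
# S4908, CHIEF by counting (helper546)

`count` : if every `g ≠ 1` of `X` has `q |C_Λ(g)| ≤ |Λ|` and `c (q + k(X) |X|) ≤ q |X|`, the stabilisers `T` of the nontrivial
elements of `Λ` cannot all satisfy `|X| < c |T| k(T)`.
-/

set_option autoImplicit false

namespace Cfsg.Agent.H546.S8

open Cfsg Subgroup Cfsg.Agent.H704.S8

universe u v

variable {X : Type v} [Group X] [Finite X] {Λ : Type u} [CommGroup Λ] [Finite Λ]

/-- commuting pairs of a subgroup -/
theorem card_pairs (T : Subgroup X) :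
    Nat.card {p : X × X // Commute p.1 p.2 ∧ p.1 ∈ T ∧ p.2 ∈ T} = Nat.card T * Nat.card (ConjClasses T) := by
  rw [mul_comm, ← card_comm_eq_card_conjClasses_mul_card]
  refine Nat.card_congr ⟨fun p => ⟨(⟨p.1.1, p.2.2.1⟩, ⟨p.1.2, p.2.2.2⟩), ?_⟩,
    fun p => ⟨((p.1.1 : X), (p.1.2 : X)), ?_, p.1.1.2, p.1.2.2⟩, ?_, ?_⟩
  · exact Subtype.ext p.2.1
  · exact congrArg Subtype.val p.2
  · intro p; rfl
  · intro p; rfl

theorem count {c q k : ℕ} (hk : Nat.card (ConjClasses X) ≤ k) (ρ : X →* MulAut Λ) (hne : ∃ x : Λ, x ≠ 1)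
    (hT : ∀ x : Λ, x ≠ 1 → ∃ T : Subgroup X, (∀ g : X, g ∈ T ↔ ρ g x = x) ∧
      Nat.card X < c * (Nat.card T * Nat.card (ConjClasses T)))
    (hg : ∀ g : X, g ≠ 1 → q * Nat.card {x : Λ // ρ g x = x} ≤ Nat.card Λ)
    (hq : c * (q + k * Nat.card X) ≤ q * Nat.card X) : False := by
  classical
  have := Fintype.ofFinite X
  have := Fintype.ofFinite Λ
  let A : Finset Λ := Finset.univ.filter fun x => x ≠ 1
  let B : Finset (X × X) := Finset.univ.filter fun p => Commute p.1 p.2
  let r : Λ → X × X → Prop := fun x p => ρ p.1 x = x ∧ ρ p.2 x = x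
  have key : ∑ x ∈ A, (B.filter fun p => r x p).card = ∑ p ∈ B, (A.filter fun x => r x p).card :=
    Finset.sum_card_bipartiteAbove_eq_sum_card_bipartiteBelow r
  -- left side
  have h1 : ∀ x ∈ A, Nat.card X < c * (B.filter fun p => r x p).card := by
    intro x hx
    obtain ⟨T, hTx, h⟩ := hT x (Finset.mem_filter.1 hx).2
    rw [← card_pairs] at h
    have h2 : Nat.card {p : X × X // Commute p.1 p.2 ∧ p.1 ∈ T ∧ p.2 ∈ T} = (B.filter fun p => r x p).card := by
      rw [Nat.card_eq_fintype_card, Fintype.card_subtype]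
      congr 1
      ext p
      simp only [B, r, Finset.mem_filter, Finset.mem_univ, true_and, hTx]
    rwa [h2] at h
  have hA : A.Nonempty := by
    obtain ⟨x, hx⟩ := hne
    exact ⟨x, Finset.mem_filter.2 ⟨Finset.mem_univ _, hx⟩⟩
  have hAc : A.card + 1 = Nat.card Λ := by
    have h2 : A = Finset.univ.erase 1 := by
      ext x
      simp [A]
    rw [h2, Finset.card_erase_add_one (Finset.mem_univ _), Finset.card_univ, Nat.card_eq_fintype_card]
  have h3 : A.card * Nat.card X < c * ∑ p ∈ B, (A.filter fun x => r x p).card := by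
    rw [← key, Finset.mul_sum]
    calc A.card * Nat.card X = ∑ _x ∈ A, Nat.card X := by rw [Finset.sum_const, smul_eq_mul]
      _ < _ := Finset.sum_lt_sum_of_nonempty hA h1
  -- the terms on the right
  have h4 : ∀ p ∈ B, p ≠ 1 → q * (A.filter fun x => r x p).card ≤ A.card := by
    intro p _ hp1
    have h5 : ∃ g : X, g ≠ 1 ∧ ∀ x, r x p → ρ g x = x := by
      by_cases hp : p.1 = 1
      · refine ⟨p.2, ?_, fun x hx => hx.2⟩
        intro h
        exact hp1 (Prod.ext hp h)
      · exact ⟨p.1, hp, fun x hx => hx.1⟩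
    obtain ⟨g, hg1, hgx⟩ := h5
    have h6 := hg g hg1
    have h7 : (A.filter fun x => r x p).card + 1 ≤ Nat.card {x : Λ // ρ g x = x} := by
      rw [Nat.card_eq_fintype_card, Fintype.card_subtype]
      have h8 : insert (1 : Λ) (A.filter fun x => r x p) ⊆ Finset.univ.filter fun x => ρ g x = x := by
        intro x hx
        rw [Finset.mem_insert] at hx
        rw [Finset.mem_filter]
        refine ⟨Finset.mem_univ _, ?_⟩
        rcases hx with rfl | hx
        · exact map_one _
        · exact hgx x (Finset.mem_filter.1 hx).2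
      have h9 := Finset.card_le_card h8
      rwa [Finset.card_insert_of_notMem] at h9
      intro h
      exact (Finset.mem_filter.1 (Finset.mem_filter.1 h).1).2 rfl
    rcases Nat.eq_zero_or_pos q with h0 | h0
    · rw [h0, zero_mul]; exact Nat.zero_le _
    · have h10 : q * ((A.filter fun x => r x p).card + 1) ≤ Nat.card Λ := le_trans (Nat.mul_le_mul_left q h7) h6
      rw [mul_add, mul_one] at h10
      omega
  have h11 : B.card ≤ k * Nat.card X := by
    have h12 : B.card = Nat.card {p : X × X // Commute p.1 p.2} := by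
      rw [Nat.card_eq_fintype_card, Fintype.card_subtype]
    rw [h12, card_comm_eq_card_conjClasses_mul_card]
    exact Nat.mul_le_mul_right _ hk
  have h13 : q * ∑ p ∈ B, (A.filter fun x => r x p).card ≤ A.card * (q + k * Nat.card X) := by
    have hm : (1 : X × X) ∈ B := Finset.mem_filter.2 ⟨Finset.mem_univ _, Commute.one_left _⟩
    rw [← Finset.add_sum_erase B _ hm, mul_add, Finset.mul_sum, mul_add]
    apply Nat.add_le_add
    · rw [mul_comm]
      exact Nat.mul_le_mul_right _ (Finset.card_filter_le _ _)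
    · calc ∑ p ∈ B.erase 1, q * (A.filter fun x => r x p).card ≤ ∑ _p ∈ B.erase 1, A.card :=
          Finset.sum_le_sum fun p hp => h4 p (Finset.mem_of_mem_erase hp) (Finset.ne_of_mem_erase hp)
        _ = (B.erase 1).card * A.card := by rw [Finset.sum_const, smul_eq_mul]
        _ ≤ (k * Nat.card X) * A.card := Nat.mul_le_mul_right _ ((Finset.card_erase_le).trans h11)
        _ = A.card * (k * Nat.card X) := mul_comm _ _
  have hApos : 0 < A.card := Finset.card_pos.2 hA
  have hqp : 0 < q := by
    rcases Nat.eq_zero_or_pos q with h0 | h0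
    · exfalso
      rw [h0, zero_mul, zero_add] at hq
      have h14 : c * (k * Nat.card X) = 0 := Nat.le_zero.1 hq
      have h15 : 0 < Nat.card X := Nat.card_pos
      have h16 : 0 < k := lt_of_lt_of_le (Nat.card_pos) hk
      have h17 : c = 0 := by
        rcases Nat.mul_eq_zero.1 h14 with h | h
        · exact h
        · exact absurd h (Nat.mul_pos h16 h15).ne'
      rw [h17, zero_mul] at h3
      exact absurd h3 (Nat.not_lt_zero _)
    · exact h0
  have h18 : q * (A.card * Nat.card X) < c * (A.card * (q + k * Nat.card X)) :=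
    calc q * (A.card * Nat.card X) < q * (c * ∑ p ∈ B, (A.filter fun x => r x p).card) := Nat.mul_lt_mul_of_pos_left h3 hqp
      _ = c * (q * ∑ p ∈ B, (A.filter fun x => r x p).card) := by ring
      _ ≤ c * (A.card * (q + k * Nat.card X)) := Nat.mul_le_mul_left _ h13
  have h19 : A.card * (q * Nat.card X) < A.card * (c * (q + k * Nat.card X)) := by
    calc A.card * (q * Nat.card X) = q * (A.card * Nat.card X) := by ring
      _ < _ := h18
      _ = _ := by ring
  exact absurd hq (not_le.2 (Nat.lt_of_mul_lt_mul_left h19))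

end Cfsg.Agent.H546.S8
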