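import Cfsg.Agent.H546.S8.Base

/-!
# S4908, CHIEF: a pair of elements of order `p` with central commutator (helper546)

`z, b, u` with `z ^ p = b ^ p = 1`, `z` commuting with `b` and `u`, `u b u⁻¹ = z b`. If `z` acts nontrivially on the finite abelian
group `Λ` of order prime to `p`, then `|Λ| ≥ w ^ p` for some `w > 1`, `w ≡ 1 mod p`, `w ∣ |Λ|`.
-/

set_option autoImplicit false
set_option linter.unusedSectionVars false

namespace Cfsg.Agent.H546.S8

open Subgroup

universe u v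

variable {X : Type v} [Group X] {Λ : Type u} [CommGroup Λ] [Finite Λ] {ρ : X →* MulAut Λ} {p : ℕ} [hp : Fact p.Prime]

theorem val_add {g : X} (hg : g ^ p = 1) (s t : ZMod p) : g ^ (s + t).val = g ^ s.val * g ^ t.val := by
  rw [← pow_add, ZMod.val_add]
  have h : g ^ ((s.val + t.val) % p + p * ((s.val + t.val) / p)) = g ^ (s.val + t.val) := by rw [Nat.mod_add_div]
  rw [← h, pow_add, pow_mul, hg, one_pow, mul_one]

theorem val_mul {g : X} (hg : g ^ p = 1) (s t : ZMod p) : g ^ (s * t).val = (g ^ s.val) ^ t.val := by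
  rw [← pow_mul, ZMod.val_mul]
  have h : g ^ ((s.val * t.val) % p + p * ((s.val * t.val) / p)) = g ^ (s.val * t.val) := by rw [Nat.mod_add_div]
  rw [← h, pow_add, pow_mul g p, hg, one_pow, mul_one]

/-- the norm -/
def Nm (p : ℕ) [Fact p.Prime] (ρ : X →* MulAut Λ) (g : X) (x : Λ) : Λ := ∏ k : ZMod p, ρ (g ^ k.val) x

theorem Nm_mul (g : X) (x y : Λ) : Nm p ρ g (x * y) = Nm p ρ g x * Nm p ρ g y := by
  simp only [Nm, map_mul, Finset.prod_mul_distrib]

theorem Nm_inv (g : X) (x : Λ) : Nm p ρ g x⁻¹ = (Nm p ρ g x)⁻¹ := by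
  simp only [Nm, map_inv, Finset.prod_inv_distrib]

theorem Nm_one (g : X) : Nm p ρ g 1 = 1 := by
  simp only [Nm, map_one, Finset.prod_const_one]

theorem Nm_prod (g : X) {ι : Type*} (s : Finset ι) (f : ι → Λ) : Nm p ρ g (∏ i ∈ s, f i) = ∏ i ∈ s, Nm p ρ g (f i) := by
  simp only [Nm, map_prod]
  rw [Finset.prod_comm]

theorem act_pow {g : X} {x : Λ} (h : ρ g x = x) (n : ℕ) : ρ (g ^ n) x = x := fix_le_pow g n h

theorem Nm_fix {g : X} {x : Λ} (h : ρ g x = x) : Nm p ρ g x = x ^ p := by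
  have h1 : ∀ k : ZMod p, ρ (g ^ k.val) x = x := fun k => act_pow h _
  rw [Nm, Finset.prod_congr rfl fun k _ => h1 k, Finset.prod_const, Finset.card_univ, ZMod.card]

theorem fix_Nm {g : X} (hg : g ^ p = 1) (x : Λ) : ρ g (Nm p ρ g x) = Nm p ρ g x := by
  rw [Nm, map_prod]
  refine Fintype.prod_bijective (fun k => 1 + k) (AddGroup.addLeft_bijective 1) _ _ fun k => ?_
  rw [val_add hg, map_mul, ZMod.val_one]
  · rw [pow_one]; rfl

theorem Nm_comm {g h : X} (hgh : g * h = h * g) (x : Λ) : Nm p ρ g (ρ h x) = ρ h (Nm p ρ g x) := by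
  rw [Nm, Nm, map_prod]
  refine Finset.prod_congr rfl fun k _ => ?_
  have h1 : g ^ k.val * h = h * g ^ k.val := (show Commute g h from hgh).pow_left _
  calc ρ (g ^ k.val) (ρ h x) = ρ (g ^ k.val * h) x := by rw [map_mul]; rfl
    _ = ρ h (ρ (g ^ k.val) x) := by rw [h1, map_mul]; rfl

/-- the data -/
structure Pair (p : ℕ) (z b w : X) : Prop where
  zp : z ^ p = 1
  bp : b ^ p = 1
  zb : z * b = b * z
  wz : w * z = z * w
  wb : w * b * w⁻¹ = z * b

section

variable {z b w : X} (P : Pair p z b w)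

include P

theorem Pair.zpow_b (i : ℕ) : Commute (z ^ i) b := (show Commute z b from P.zb).pow_left i

theorem Pair.Bp (i : ZMod p) : (z ^ i.val * b) ^ p = 1 := by
  rw [(P.zpow_b _).mul_pow, P.bp, mul_one, ← pow_mul, mul_comm, pow_mul, P.zp, one_pow]

theorem Pair.step (i j : ZMod p) (k : ZMod p) :
    (z ^ j.val * b) ^ k.val = z ^ ((j - i) * k).val * (z ^ i.val * b) ^ k.val := by
  rw [(P.zpow_b _).mul_pow, (P.zpow_b _).mul_pow, ← mul_assoc, ← val_mul P.zp, ← val_mul P.zp, ← val_add P.zp]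
  congr 3
  ring

/-- the norm of `z ^ j b` on the fixed points of `z ^ i b` -/
theorem Pair.cross {i j : ZMod p} (hij : i ≠ j) {x : Λ} (hx : ρ (z ^ i.val * b) x = x) :
    Nm p ρ (z ^ j.val * b) x = Nm p ρ z x := by
  unfold Nm
  refine Fintype.prod_bijective (fun k => (j - i) * k) (mulLeft_bijective₀ _ (sub_ne_zero.2 hij.symm)) _ _ fun k => ?_
  rw [P.step i j k, map_mul]
  show ρ (z ^ ((j - i) * k).val) (ρ ((z ^ i.val * b) ^ k.val) x) = _
  rw [act_pow hx]

/-- the fixed points of `z ^ i b` in the kernel of the norm of `z` -/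
def WW (_P : Pair p z b w) (ρ : X →* MulAut Λ) (i : ZMod p) : Subgroup Λ where
  carrier := {x | ρ (z ^ i.val * b) x = x ∧ Nm p ρ z x = 1}
  one_mem' := ⟨map_one _, Nm_one z⟩
  mul_mem' := by
    rintro x y ⟨hx, hx'⟩ ⟨hy, hy'⟩
    exact ⟨by rw [map_mul, hx, hy], by rw [Nm_mul, hx', hy', mul_one]⟩
  inv_mem' := by
    rintro x ⟨hx, hx'⟩
    exact ⟨by rw [map_inv, hx], by rw [Nm_inv, hx', inv_one]⟩

theorem Pair.mem {i : ZMod p} {x : Λ} : x ∈ WW P ρ i ↔ ρ (z ^ i.val * b) x = x ∧ Nm p ρ z x = 1 := Iff.rfl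

/-- `w` permutes them -/
theorem Pair.move {i : ZMod p} {x : Λ} (hx : x ∈ WW P ρ i) : ρ w x ∈ WW P ρ (i + 1) := by
  obtain ⟨h1, h2⟩ := P.mem.1 hx
  refine P.mem.2 ⟨?_, ?_⟩
  · have h3 : z ^ (i + 1).val * b * w = w * (z ^ i.val * b) := by
      rw [val_add P.zp, ZMod.val_one, pow_one]
      have h4 : z * b * w = w * b := by rw [← P.wb]; group
      have h5 : z ^ i.val * w = w * z ^ i.val := ((show Commute w z from P.wz).pow_right _).eq.symm
      calc z ^ i.val * z * b * w = z ^ i.val * (z * b * w) := by group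
        _ = z ^ i.val * w * b := by rw [h4]; group
        _ = w * (z ^ i.val * b) := by rw [h5]; group
    calc ρ (z ^ (i + 1).val * b) (ρ w x) = ρ (z ^ (i + 1).val * b * w) x := by rw [map_mul _ (z ^ (i + 1).val * b) w]; rfl
      _ = ρ w (ρ (z ^ i.val * b) x) := by rw [h3, map_mul]; rfl
      _ = ρ w x := by rw [h1]
  · rw [Nm_comm P.wz.symm, h2, map_one]

theorem Pair.moven {i : ZMod p} {x : Λ} (hx : x ∈ WW P ρ i) (n : ℕ) : ρ (w ^ n) x ∈ WW P ρ (i + n) := by
  induction n with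
  | zero => simpa using hx
  | succ n ih =>
    have h := P.move ih
    rw [pow_succ', map_mul]
    have e : i + ((n + 1 : ℕ) : ZMod p) = i + n + 1 := by push_cast; ring
    rw [e]
    exact h

theorem Pair.card_le (i j : ZMod p) : Nat.card (WW P ρ i) ≤ Nat.card (WW P ρ j) := by
  have e : i + ((j - i).val : ZMod p) = j := by rw [ZMod.natCast_zmod_val]; ring
  refine Nat.card_le_card_of_injective (fun x => (⟨ρ (w ^ (j - i).val) x, ?_⟩ : WW P ρ j)) ?_
  · have h := P.moven x.2 (j - i).val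
    rwa [e] at h
  · intro x y hxy
    exact Subtype.ext ((ρ (w ^ (j - i).val)).injective (congrArg Subtype.val hxy))

theorem Pair.card_eq (i j : ZMod p) : Nat.card (WW P ρ i) = Nat.card (WW P ρ j) := le_antisymm (P.card_le i j) (P.card_le j i)

theorem eq_one_of_pow {x : Λ} (hc : Nat.Coprime p (Nat.card Λ)) (h : x ^ p = 1) : x = 1 := by
  have h1 : orderOf x ∣ p := orderOf_dvd_of_pow_eq_one h
  have h2 : orderOf x ∣ Nat.card Λ := orderOf_dvd_natCard x
  have h3 := Nat.dvd_gcd h1 h2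
  rw [hc] at h3
  exact orderOf_eq_one_iff.1 (Nat.dvd_one.1 h3)

/-- **the lower bound** -/
theorem Pair.pow_le (hc : Nat.Coprime p (Nat.card Λ)) : Nat.card (WW P ρ 0) ^ p ≤ Nat.card Λ := by
  have h1 : Function.Injective (fun f : (i : ZMod p) → WW P ρ i => ∏ i, (f i : Λ)) := by
    intro f g hfg
    have h2 : ∏ i, ((f i : Λ) * (g i : Λ)⁻¹) = 1 := by
      rw [Finset.prod_mul_distrib, Finset.prod_inv_distrib]
      have h3 : ∏ i, (f i : Λ) = ∏ i, (g i : Λ) := hfg
      rw [h3, mul_inv_cancel]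
    funext j
    have h4 : ∀ i, (f i : Λ) * (g i : Λ)⁻¹ ∈ WW P ρ i := fun i => mul_mem (f i).2 (inv_mem (g i).2)
    have h5 : Nm p ρ (z ^ j.val * b) (∏ i, ((f i : Λ) * (g i : Λ)⁻¹)) = ((f j : Λ) * (g j : Λ)⁻¹) ^ p := by
      rw [Nm_prod, Finset.prod_eq_single j]
      · exact Nm_fix (P.mem.1 (h4 j)).1
      · intro i _ hij
        rw [P.cross hij (P.mem.1 (h4 i)).1]
        exact (P.mem.1 (h4 i)).2
      · intro h
        exact absurd (Finset.mem_univ j) h
    rw [h2, Nm_one] at h5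
    have h6 := eq_one_of_pow P hc h5.symm
    exact Subtype.ext (mul_inv_eq_one.1 h6)
  have h7 := Nat.card_le_card_of_injective _ h1
  rw [Nat.card_pi, Finset.prod_congr rfl fun i _ => P.card_eq i 0, Finset.prod_const, Finset.card_univ, ZMod.card] at h7
  exact h7

/-- it is nontrivial -/
theorem Pair.ne_bot (hc : Nat.Coprime p (Nat.card Λ)) (hz : ∃ x : Λ, ρ z x ≠ x) : 1 < Nat.card (WW P ρ 0) := by
  obtain ⟨x, hx⟩ := hz
  obtain ⟨y, hy⟩ : ∃ y, y = ρ z x * x⁻¹ := ⟨_, rfl⟩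
  have hy1 : y ≠ 1 := fun h => hx (mul_inv_eq_one.1 (hy.symm.trans h))
  have hyN : Nm p ρ z y = 1 := by
    rw [hy, Nm_mul, Nm_inv, Nm_comm rfl, fix_Nm P.zp, mul_inv_cancel]
  -- the sum of the norms
  have key : ∏ i : ZMod p, Nm p ρ (z ^ i.val * b) y = y ^ p := by
    have h1 : ∀ i k : ZMod p, ρ ((z ^ i.val * b) ^ k.val) y = ρ (b ^ k.val) (ρ (z ^ (k * i).val) y) := by
      intro i k
      rw [(P.zpow_b _).mul_pow, ← val_mul P.zp, mul_comm i k, ((P.zpow_b _).pow_right _).eq, map_mul]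
      rfl
    simp only [Nm, h1]
    rw [Finset.prod_comm, ← Finset.mul_prod_erase Finset.univ _ (Finset.mem_univ (0 : ZMod p))]
    have h2 : ∏ i : ZMod p, ρ (b ^ (0 : ZMod p).val) (ρ (z ^ (0 * i).val) y) = y ^ p := by
      simp [Finset.prod_const, Finset.card_univ, ZMod.card]
    rw [h2]
    have h3 : ∏ k ∈ Finset.univ.erase (0 : ZMod p), ∏ i : ZMod p, ρ (b ^ k.val) (ρ (z ^ (k * i).val) y) = 1 := by
      refine Finset.prod_eq_one fun k hk => ?_
      have hk0 : k ≠ 0 := Finset.ne_of_mem_erase hk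
      rw [← map_prod]
      have h4 : ∏ i : ZMod p, ρ (z ^ (k * i).val) y = Nm p ρ z y := by
        unfold Nm
        exact Fintype.prod_bijective (fun i => k * i) (mulLeft_bijective₀ k hk0) _ _ fun i => rfl
      rw [h4, hyN, map_one]
    rw [h3, mul_one]
  have h5 : ∃ i : ZMod p, Nm p ρ (z ^ i.val * b) y ≠ 1 := by
    by_contra hcon
    push Not at hcon
    rw [Finset.prod_eq_one fun i _ => hcon i] at key
    exact hy1 (eq_one_of_pow P hc key.symm)
  obtain ⟨i, hi⟩ := h5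
  rw [P.card_eq 0 i]
  have h6 : Nm p ρ (z ^ i.val * b) y ∈ WW P ρ i := by
    refine P.mem.2 ⟨fix_Nm (P.Bp i) y, ?_⟩
    have h7 : ∀ k : ZMod p, Nm p ρ z (ρ ((z ^ i.val * b) ^ k.val) y) = 1 := by
      intro k
      have h8 : Commute z ((z ^ i.val * b) ^ k.val) :=
        (((Commute.refl z).pow_right _).mul_right (show Commute z b from P.zb)).pow_right _
      rw [Nm_comm h8.eq, hyN, map_one]
    rw [show Nm p ρ (z ^ i.val * b) y = ∏ k : ZMod p, ρ ((z ^ i.val * b) ^ k.val) y from rfl, Nm_prod]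
    exact Finset.prod_eq_one fun k _ => h7 k
  rw [Finite.one_lt_card_iff_nontrivial]
  exact ⟨⟨_, h6⟩, 1, fun h => hi (congrArg Subtype.val h)⟩

/-- its order is `1` modulo `p` -/
theorem Pair.modEq (hc : Nat.Coprime p (Nat.card Λ)) : Nat.card (WW P ρ 0) ≡ 1 [MOD p] := by
  classical
  have := Fintype.ofFinite (WW P ρ 0)
  have hmap : ∀ x : WW P ρ 0, ρ z (x : Λ) ∈ WW P ρ 0 := by
    intro x
    obtain ⟨h1, h2⟩ := P.mem.1 x.2
    refine P.mem.2 ⟨?_, ?_⟩
    · have h3 : z ^ (0 : ZMod p).val * b * z = z * (z ^ (0 : ZMod p).val * b) := by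
        rw [ZMod.val_zero, pow_zero, one_mul, P.zb]
      calc ρ (z ^ (0 : ZMod p).val * b) (ρ z x) = ρ (z ^ (0 : ZMod p).val * b * z) x := by
            rw [map_mul _ (z ^ (0 : ZMod p).val * b) z]; rfl
        _ = ρ z (ρ (z ^ (0 : ZMod p).val * b) x) := by rw [h3, map_mul]; rfl
        _ = ρ z x := by rw [h1]
    · rw [Nm_comm rfl, h2, map_one]
  let f : Function.End (WW P ρ 0) := fun x => ⟨ρ z x, hmap x⟩
  have hf : ∀ (n : ℕ) (x : WW P ρ 0), (((f ^ n : Function.End (WW P ρ 0)) x : WW P ρ 0) : Λ) = ρ (z ^ n) x := by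
    intro n
    induction n with
    | zero =>
      intro x
      rw [pow_zero, pow_zero, map_one]
      rfl
    | succ n ih =>
      intro x
      rw [pow_succ, pow_succ]
      show (((f ^ n : Function.End (WW P ρ 0)) (f x) : WW P ρ 0) : Λ) = _
      rw [ih, map_mul]
      rfl
  have hfp : f ^ p ^ 1 = 1 := by
    funext x
    apply Subtype.ext
    rw [hf, pow_one, P.zp, map_one]
    rfl
  have h1 := Equiv.Perm.card_fixedPoints_modEq (p := p) (n := 1) hfp
  rw [← Nat.card_eq_fintype_card] at h1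
  have h2 : Fintype.card (Function.fixedPoints f) = 1 := by
    rw [Fintype.card_eq_one_iff]
    refine ⟨⟨1, ?_⟩, ?_⟩
    · show f 1 = 1
      apply Subtype.ext
      show ρ z ((1 : WW P ρ 0) : Λ) = 1
      simp
    · rintro ⟨x, hx⟩
      have h3 : ρ z (x : Λ) = x := congrArg Subtype.val hx
      have h4 := (P.mem.1 x.2).2
      rw [Nm_fix h3] at h4
      have h5 := eq_one_of_pow P hc h4
      apply Subtype.ext
      exact Subtype.ext h5
  rw [h2] at h1
  exact h1

end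

end Cfsg.Agent.H546.S8
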