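import Cfsg.Agent.H981.Inv.HN
import Cfsg.Agent.H789.Ore.HNComp

/-!
# The 5-elements of `HN` (helper546, for S4908)

The reduction of helper981 and helper285 with the predicate `conjugate to a power of an element of a list of 30`.
-/

set_option autoImplicit false
set_option maxRecDepth 100000

namespace Cfsg.Agent.H546.S8.HNFive

open Subgroup Cfsg Cfsg.Agent.H839.Rad.Ext Cfsg.Agent.HN Cfsg.Agent.H981.InvHN
open Cfsg.Agent.H839.Rad.HN (W A B C₁ D F τ k ext e_fa1 e_fb1 e_fa2 e_fb2 FW e_taua1 e_taub1 e_taua2 e_taub2 e_tauw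
  e_ka1 e_kb1 e_ka2 e_kb2 e_kw F_Q A_eq F_eq e_b25 W_ne center_HN e_w5)

/-! ### the predicate -/

/-- the representatives -/
noncomputable def L30 : List Spor.HN := [A, D, C₁, B * (D * D), A * (D * D)] ++
  ((List.range 5).flatMap fun (u : ℕ) => (List.range 5).map fun (m : ℕ) => nf W A B C₁ D 0 0 (u : ℤ) 0 (m : ℤ) * F)

theorem length_L30 : L30.length = 30 := by
  simp [L30, List.length_flatMap]

/-- `x` is conjugate to a power of an element of the list -/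
def T5 (x : Spor.HN) : Prop := x ^ 25 = 1 → ∃ y ∈ L30, ∃ n : ℕ, IsConj x (y ^ n)

theorem T5.of_pow {x : Spor.HN} (n n' : ℕ) (hn : n * n' % 25 = 1) (h : T5 (x ^ n)) : T5 x := by
  intro hx
  obtain ⟨y, hy, k, hk⟩ := h (by rw [← pow_mul, mul_comm, pow_mul, hx, one_pow])
  refine ⟨y, hy, k * n', ?_⟩
  have h1 : x = (x ^ n) ^ n' := by
    rw [← pow_mul, ← Nat.div_add_mod (n * n') 25, hn, pow_add, pow_mul, hx, one_pow, one_mul, pow_one]
  obtain ⟨c, hc⟩ := isConj_iff.1 hk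
  rw [isConj_iff]
  refine ⟨c, ?_⟩
  rw [h1, pow_mul, ← hc, conj_pow]

theorem T5.of_conj {x : Spor.HN} (t : Spor.HN) (h : T5 (t * x * t⁻¹)) : T5 x := by
  intro hx
  obtain ⟨y, hy, n, hn⟩ := h (by rw [conj_pow, hx, mul_one, mul_inv_cancel])
  exact ⟨y, hy, n, (isConj_iff.2 ⟨t, rfl⟩ : IsConj x (t * x * t⁻¹)).trans hn⟩

theorem T5.of_mem {x : Spor.HN} (h : x ∈ L30) : T5 x := fun _ => ⟨x, h, 1, by rw [pow_one]⟩

theorem mem_F {u : ℕ} (hu : u < 5) (m : ℤ) : nf W A B C₁ D 0 0 u 0 m * F ∈ L30 := by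
  have h1 : W ^ m = W ^ (((m % 5).toNat : ℕ) : ℤ) := zpow_eq e_w5 (by
    rw [Int.toNat_of_nonneg (Int.emod_nonneg _ (by norm_num))]
    omega)
  have h2 : nf W A B C₁ D 0 0 u 0 m * F = nf W A B C₁ D 0 0 u 0 (((m % 5).toNat : ℕ) : ℤ) * F := by
    simp only [nf, h1]
  rw [h2, L30, List.mem_append, List.mem_flatMap]
  right
  refine ⟨u, List.mem_range.2 hu, List.mem_map.2 ⟨(m % 5).toNat, List.mem_range.2 ?_, rfl⟩⟩
  have h3 := Int.emod_lt_of_pos m (show (0 : ℤ) < 5 by norm_num)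
  have h4 := Int.emod_nonneg m (show (5 : ℤ) ≠ 0 by norm_num)
  omega

/-- conjugation -/
theorem step_conj {g : Spor.HN} (hW : g * W = W * g)
    {a0 a1 a2 a3 b0 b1 b2 b3 c0 c1 c2 c3 e0 e1 e2 e3 : ℕ} {a4 b4 c4 e4 : ℤ}
    (hA : g * A = nf W A B C₁ D a0 a1 a2 a3 a4 * g) (hB : g * B = nf W A B C₁ D b0 b1 b2 b3 b4 * g)
    (hC : g * C₁ = nf W A B C₁ D c0 c1 c2 c3 c4 * g) (hD : g * D = nf W A B C₁ D e0 e1 e2 e3 e4 * g) {v : ℕ}
    (h : ∀ m, T5 (nv (en (d0 v * a0 + d1 v * b0 + d2 v * c0 + d3 v * e0) (d0 v * a1 + d1 v * b1 + d2 v * c1 + d3 v * e1)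
      (d0 v * a2 + d1 v * b2 + d2 v * c2 + d3 v * e2) (d0 v * a3 + d1 v * b3 + d2 v * c3 + d3 v * e3)) m)) :
    ∀ m, T5 (nv v m) := by
  intro m
  apply T5.of_conj g
  obtain ⟨m', hm⟩ := conj_nf hW hA hB hC hD (d0 v) (d1 v) (d2 v) (d3 v) m
  rw [nv, hm]
  have h1 := h m'
  rw [← nf_en] at h1
  push_cast at h1
  exact h1

theorem move1 (g v : ℕ) (h : ∀ m, T5 (nv (mv1 g v) m)) : ∀ m, T5 (nv v m) := by
  rcases g with _ | _ | _ | g
  · refine step_conj FW (by exact_mod_cast e_fa1) (by exact_mod_cast e_fb1) (by exact_mod_cast e_fa2)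
      (by exact_mod_cast e_fb2) fun m => ?_
    refine Eq.mp ?_ (h m)
    congr 2
    exact en_congr (by ring) (by ring) (by ring) (by ring)
  · refine step_conj e_tauw (by exact_mod_cast e_taua1) (by exact_mod_cast e_taub1) (by exact_mod_cast e_taua2)
      (by exact_mod_cast e_taub2) fun m => ?_
    refine Eq.mp ?_ (h m)
    congr 2
    exact en_congr (by ring) (by ring) (by ring) (by ring)
  · refine step_conj e_kw (by exact_mod_cast e_ka1) (by exact_mod_cast e_kb1) (by exact_mod_cast e_ka2)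
      (by exact_mod_cast e_kb2) fun m => ?_
    refine Eq.mp ?_ (h m)
    congr 2
    exact en_congr (by ring) (by ring) (by ring) (by ring)
  · intro m
    refine T5.of_pow 2 13 (by decide) ?_
    obtain ⟨e, -, h1⟩ := ext.nf_pow (d0 v) (d1 v) (d2 v) (d3 v) m 2
    rw [nv, h1]
    have h2 : mv1 (g + 3) v = en (2 * d0 v) (2 * d1 v) (2 * d2 v) (2 * d3 v) := rfl
    have h3 := h (((2 : ℕ) : ℤ) * m - e * ((d0 v : ℤ) * (d1 v : ℤ) + (d2 v : ℤ) * (d3 v : ℤ)))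
    rw [h2, ← nf_en] at h3
    push_cast at h3 ⊢
    exact h3

/-! ### the words -/

theorem t_A : T5 A := T5.of_mem (by simp [L30])

theorem t_D : T5 D := T5.of_mem (by simp [L30])

theorem t_C : T5 C₁ := T5.of_mem (by simp [L30])

theorem t_B : T5 (B * (D * D)) := T5.of_mem (by simp [L30])

theorem t_E : T5 (A * (D * D)) := T5.of_mem (by simp [L30])

/-! ### `Q` -/

/-- the central part of a normal form can be changed by conjugation -/
theorem rep_all {r0 r1 r2 r3 : ℤ} (s0 s1 s2 s3 : ℤ) (hω : s0 * r1 - r0 * s1 + s2 * r3 - r2 * s3 = 1)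
    (h : T5 (nf W A B C₁ D r0 r1 r2 r3 0)) (m : ℤ) : T5 (nf W A B C₁ D r0 r1 r2 r3 m) := by
  apply T5.of_conj (nf W A B C₁ D (-m * s0) (-m * s1) (-m * s2) (-m * s3) 0)
  rw [ext.nf_mul_comm, mul_assoc (W ^ _), mul_inv_cancel_right]
  have h1 : -m * s0 * r1 - r0 * (-m * s1) + -m * s2 * r3 - r2 * (-m * s3) = -m := by
    linear_combination (-m) * hω
  rw [h1]
  have h2 : W ^ (-m) = nf W A B C₁ D 0 0 0 0 (-m) := by simp [nf]
  rw [h2, ext.nf_mul]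
  have h3 : nf W A B C₁ D (0 + r0) (0 + r1) (0 + r2) (0 + r3) (-m + m - r0 * 0 - r2 * 0) =
      nf W A B C₁ D r0 r1 r2 r3 0 := by
    congr 1 <;> ring
  rw [h3]
  exact h

theorem goodQ : ∀ v < 625, v ≠ 0 → ∀ m, T5 (nv v m) := by
  intro v hv h0
  refine all_of_rank (P := fun v => ∀ m, T5 (nv v m)) chk1 move1 ?_ _ v (Nat.lt_succ_self _) hv (fun _ => h0)
  intro v hv m
  simp only [List.mem_cons, List.not_mem_nil, or_false] at hv
  rcases hv with rfl | rfl | rfl | rfl | rfl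
  · refine rep_all (r0 := ((d0 1 : ℕ) : ℤ)) (r1 := ((d1 1 : ℕ) : ℤ)) (r2 := ((d2 1 : ℕ) : ℤ)) (r3 := ((d3 1 : ℕ) : ℤ))
      0 (-1) 0 0 (by decide) ?_ m
    have h : nf W A B C₁ D ((d0 1 : ℕ) : ℤ) ((d1 1 : ℕ) : ℤ) ((d2 1 : ℕ) : ℤ) ((d3 1 : ℕ) : ℤ) 0 = A := by
      simp [nf, d0e, d1e, d2e, d3e]
    rw [h]
    exact t_A
  · refine rep_all (r0 := ((d0 125 : ℕ) : ℤ)) (r1 := ((d1 125 : ℕ) : ℤ)) (r2 := ((d2 125 : ℕ) : ℤ))
      (r3 := ((d3 125 : ℕ) : ℤ)) 0 0 1 0 (by decide) ?_ m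
    have h : nf W A B C₁ D ((d0 125 : ℕ) : ℤ) ((d1 125 : ℕ) : ℤ) ((d2 125 : ℕ) : ℤ) ((d3 125 : ℕ) : ℤ) 0 = D := by
      simp [nf, d0e, d1e, d2e, d3e]
    rw [h]
    exact t_D
  · refine rep_all (r0 := ((d0 25 : ℕ) : ℤ)) (r1 := ((d1 25 : ℕ) : ℤ)) (r2 := ((d2 25 : ℕ) : ℤ))
      (r3 := ((d3 25 : ℕ) : ℤ)) 0 0 0 (-1) (by decide) ?_ m
    have h : nf W A B C₁ D ((d0 25 : ℕ) : ℤ) ((d1 25 : ℕ) : ℤ) ((d2 25 : ℕ) : ℤ) ((d3 25 : ℕ) : ℤ) 0 = C₁ := by
      simp [nf, d0e, d1e, d2e, d3e]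
    rw [h]
    exact t_C
  · refine rep_all (r0 := ((d0 255 : ℕ) : ℤ)) (r1 := ((d1 255 : ℕ) : ℤ)) (r2 := ((d2 255 : ℕ) : ℤ))
      (r3 := ((d3 255 : ℕ) : ℤ)) 1 0 0 0 (by decide) ?_ m
    have h : nf W A B C₁ D ((d0 255 : ℕ) : ℤ) ((d1 255 : ℕ) : ℤ) ((d2 255 : ℕ) : ℤ) ((d3 255 : ℕ) : ℤ) 0 =
        B * (D * D) := by
      simp [nf, d0e, d1e, d2e, d3e, pow_two]
    rw [h]
    exact t_B
  · refine rep_all (r0 := ((d0 251 : ℕ) : ℤ)) (r1 := ((d1 251 : ℕ) : ℤ)) (r2 := ((d2 251 : ℕ) : ℤ))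
      (r3 := ((d3 251 : ℕ) : ℤ)) 0 (-1) 0 0 (by decide) ?_ m
    have h : nf W A B C₁ D ((d0 251 : ℕ) : ℤ) ((d1 251 : ℕ) : ℤ) ((d2 251 : ℕ) : ℤ) ((d3 251 : ℕ) : ℤ) 0 =
        A * (D * D) := by
      simp [nf, d0e, d1e, d2e, d3e, pow_two]
    rw [h]
    exact t_E

theorem goodW : T5 W := by
  have h1 : W = Cfsg.Agent.H839.Rad.HN.G * A * Cfsg.Agent.H839.Rad.HN.G⁻¹ := by rw [A_eq]; group
  apply T5.of_conj Cfsg.Agent.H839.Rad.HN.G⁻¹
  rw [inv_inv, ← A_eq]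
  exact t_A

/-! ### the coset of `F` -/

theorem move2 (g v : ℕ) (h : ∀ m, T5 (nv (mv2 g v) m * F)) : ∀ m, T5 (nv v m * F) := by
  intro m
  have key : ∀ (s : Spor.HN) (a0 a1 a2 a3 a4 s0 s1 s2 s3 : ℤ) (c0 c1 c2 c3 : ℕ),
      s⁻¹ = nf W A B C₁ D s0 s1 s2 s3 0 → F * s = nf W A B C₁ D a0 a1 a2 a3 a4 * F →
      (5 : ℤ) ∣ s0 + a0 - c0 → (5 : ℤ) ∣ s1 + a1 - c1 → (5 : ℤ) ∣ s2 + a2 - c2 → (5 : ℤ) ∣ s3 + a3 - c3 →
      (∀ m, T5 (nv (en (d0 v + c0) (d1 v + c1) (d2 v + c2) (d3 v + c3)) m * F)) → T5 (nv v m * F) := by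
    intro s a0 a1 a2 a3 a4 s0 s1 s2 s3 c0 c1 c2 c3 hs hF h0 h1 h2 h3 hv
    apply T5.of_conj s⁻¹
    obtain ⟨m', hm⟩ := step_F hs hF (d0 v) (d1 v) (d2 v) (d3 v) m
    rw [nv, hm]
    have h4 := hv m'
    rw [← nf_en] at h4
    rw [nf_mod (i' := ((d0 v + c0 : ℕ) : ℤ)) (j' := ((d1 v + c1 : ℕ) : ℤ)) (u' := ((d2 v + c2 : ℕ) : ℤ))
      (l' := ((d3 v + c3 : ℕ) : ℤ)) (by push_cast; omega) (by push_cast; omega) (by push_cast; omega)
      (by push_cast; omega)]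
    exact h4
  rcases g with _ | _ | _ | g
  · exact key A _ _ _ _ _ (-1) 0 0 0 4 0 4 4 (by simp [nf]) e_fa1 (by norm_num) (by norm_num) (by norm_num) (by norm_num)
      h
  · exact key B _ _ _ _ _ 0 (-1) 0 0 0 0 0 4 (by simp [nf]) e_fb1 (by norm_num) (by norm_num) (by norm_num) (by norm_num)
      h
  · exact key C₁ _ _ _ _ _ 0 0 (-1) 0 4 1 3 4 (by simp [nf]) e_fa2 (by norm_num) (by norm_num) (by norm_num)
      (by norm_num) h
  · exact key D _ _ _ _ _ 0 0 0 (-1) 4 0 4 3 (by simp [nf]) e_fb2 (by norm_num) (by norm_num) (by norm_num) (by norm_num)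
      h

theorem goodF : ∀ v < 625, ∀ m, T5 (nv v m * F) := by
  intro v hv
  refine all_of_rank (P := fun v => ∀ m, T5 (nv v m * F)) chk2 move2 ?_ _ v (Nat.lt_succ_self _) hv
    (fun h => absurd h (by decide))
  intro v hv m
  simp only [List.mem_cons, List.not_mem_nil, or_false] at hv
  have hc : ∀ u : ℕ, u < 5 → nv (25 * u) m = nf W A B C₁ D 0 0 u 0 m := by
    intro u hu
    rw [nv, d0e, d1e, d2e, d3e]
    apply nf_eq <;> omega
  rcases hv with rfl | rfl | rfl | rfl | rfl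
  · rw [show (0 : ℕ) = 25 * 0 from rfl, hc 0 (by decide)]
    exact T5.of_mem (mem_F (by decide) m)
  · rw [show (25 : ℕ) = 25 * 1 from rfl, hc 1 (by decide)]
    exact T5.of_mem (mem_F (by decide) m)
  · rw [show (50 : ℕ) = 25 * 2 from rfl, hc 2 (by decide)]
    exact T5.of_mem (mem_F (by decide) m)
  · rw [show (75 : ℕ) = 25 * 3 from rfl, hc 3 (by decide)]
    exact T5.of_mem (mem_F (by decide) m)
  · rw [show (100 : ℕ) = 25 * 4 from rfl, hc 4 (by decide)]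
    exact T5.of_mem (mem_F (by decide) m)

/-! ### all 5-elements -/

theorem five (x : Spor.HN) (hx : x ^ 25 = 1) : T5 x := by
  have : Fact (Nat.Prime 5) := ⟨by norm_num⟩
  have hfin : Finite Spor.HN := Cfsg.Agent.H315.PwHN.fin
  obtain ⟨g, hg⟩ := Cfsg.Agent.H789.Ore.HNComp.exists_conj (n := 2) isPGroup_P index_P (by
    rw [show (5 : ℕ) ^ 2 = 25 by norm_num]; exact hx)
  apply T5.of_conj g
  obtain ⟨q, hq, s, hs⟩ := hg
  rw [hs]
  by_cases h5 : (5 : ℤ) ∣ s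
  · have h1 : F ^ s = 1 := by rw [zpow_eq F5 (i := s) (j := 0) (by simpa using h5), zpow_zero]
    rw [h1, mul_one]
    obtain ⟨i, j, u, l, m, rfl⟩ := hq
    obtain ⟨v, hv, he⟩ := exists_code i j u l m
    rw [he]
    by_cases h0 : v = 0
    · subst h0
      have h2 : nv 0 m = W ^ m := by simp [nv, nf, d0e, d1e, d2e, d3e]
      rw [h2]
      by_cases h3 : (5 : ℤ) ∣ m
      · rw [zpow_eq e_w5 (i := m) (j := 0) (by simpa using h3), zpow_zero]
        intro _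
        exact ⟨A, by simp [L30], 0, by rw [pow_zero]⟩
      obtain ⟨t, t', htt, ht⟩ : ∃ t t' : ℕ, t * t' % 25 = 1 ∧ (5 : ℤ) ∣ m * t - 1 := by
        have h4 : m % 5 = 1 ∨ m % 5 = 2 ∨ m % 5 = 3 ∨ m % 5 = 4 := by omega
        rcases h4 with h | h | h | h
        · exact ⟨1, 1, by decide, by push_cast; omega⟩
        · exact ⟨3, 17, by decide, by push_cast; omega⟩
        · exact ⟨2, 13, by decide, by push_cast; omega⟩
        · exact ⟨4, 19, by decide, by push_cast; omega⟩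
      refine T5.of_pow t t' htt ?_
      rw [← zpow_natCast, ← zpow_mul, zpow_eq e_w5 (j := 1) ht, zpow_one]
      exact goodW
    · exact goodQ v hv h0 m
  · obtain ⟨t, t', htt, ht⟩ : ∃ t t' : ℕ, t * t' % 25 = 1 ∧ (5 : ℤ) ∣ s * t - 1 := by
      have h4 : s % 5 = 1 ∨ s % 5 = 2 ∨ s % 5 = 3 ∨ s % 5 = 4 := by omega
      rcases h4 with h | h | h | h
      · exact ⟨1, 1, by decide, by push_cast; omega⟩
      · exact ⟨3, 17, by decide, by push_cast; omega⟩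
      · exact ⟨2, 13, by decide, by push_cast; omega⟩
      · exact ⟨4, 19, by decide, by push_cast; omega⟩
    refine T5.of_pow t t' htt ?_
    obtain ⟨q', hq', he⟩ := pow_form hq s t
    rw [he, zpow_eq F5 (i := s * t) (j := 1) ht, zpow_one]
    obtain ⟨i, j, u, l, m, rfl⟩ := hq'
    obtain ⟨v, hv, he⟩ := exists_code i j u l m
    rw [he]
    exact goodF v hv m

theorem L30_mem (y : Spor.HN) (hy : y ∈ L30) : y ∈ P := by
  have hA : A ∈ ext.Q := ext.a_mem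
  have hB : B ∈ ext.Q := ext.b_mem
  have hC : C₁ ∈ ext.Q := ext.c_mem
  have hD : D ∈ ext.Q := ext.d_mem
  have hW : W ∈ ext.Q := ext.w_mem
  rw [L30, List.mem_append] at hy
  rcases hy with hy | hy
  · simp only [List.mem_cons, List.not_mem_nil, or_false] at hy
    rcases hy with rfl | rfl | rfl | rfl | rfl
    · exact Q_le_P hA
    · exact Q_le_P hD
    · exact Q_le_P hC
    · exact Q_le_P (mul_mem hB (mul_mem hD hD))
    · exact Q_le_P (mul_mem hA (mul_mem hD hD))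
  · rw [List.mem_flatMap] at hy
    obtain ⟨u, -, hy⟩ := hy
    obtain ⟨m, -, rfl⟩ := List.mem_map.1 hy
    refine mul_mem (Q_le_P ?_) F_mem_P
    unfold nf
    exact mul_mem (mul_mem (mul_mem (mul_mem (zpow_mem hA _) (zpow_mem hB _)) (zpow_mem hC _)) (zpow_mem hD _))
      (zpow_mem hW _)

theorem L30_pow (y : Spor.HN) (hy : y ∈ L30) : y ^ 25 = 1 := by
  obtain ⟨k, hk⟩ := isPGroup_P ⟨y, L30_mem y hy⟩
  exact Cfsg.Agent.H789.Ore.HNComp.pow_twentyfive (n := k) (congrArg Subtype.val hk)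

/-- the classes of the 5-elements -/
theorem classes_five : Nat.card {c : ConjClasses Spor.HN // ∃ g : Spor.HN, ConjClasses.mk g = c ∧ g ^ 25 = 1} ≤ 750 := by
  have hfin : Finite Spor.HN := Cfsg.Agent.H315.PwHN.fin
  have hsur : ∀ c : {c : ConjClasses Spor.HN // ∃ g : Spor.HN, ConjClasses.mk g = c ∧ g ^ 25 = 1},
      ∃ i : Fin 30 × Fin 25, ConjClasses.mk ((L30.getD i.1 1) ^ (i.2 : ℕ)) = c.1 := by
    rintro ⟨c, g, hg, hg25⟩
    obtain ⟨y, hy, n, hn⟩ := five g hg25 hg25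
    obtain ⟨j, hj⟩ := List.get_of_mem hy
    have hy25 : IsConj g (y ^ (n % 25)) := by
      have h1 : y ^ (n % 25) = y ^ n := by
        conv_rhs => rw [← Nat.div_add_mod n 25, pow_add, pow_mul, L30_pow y hy, one_pow, one_mul]
      rw [h1]
      exact hn
    refine ⟨(⟨j, by rw [← length_L30]; exact j.2⟩, ⟨n % 25, Nat.mod_lt _ (by norm_num)⟩), ?_⟩
    show ConjClasses.mk ((L30.getD (j : ℕ) 1) ^ (n % 25)) = c
    rw [List.getD_eq_getElem _ _ j.2, ← hg]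
    have h1 : L30[(j : ℕ)] = y := hj
    rw [h1]
    exact (ConjClasses.mk_eq_mk_iff_isConj.2 hy25).symm
  choose f hf using hsur
  have h1 : Function.Injective f := by
    intro a b hab
    apply Subtype.ext
    rw [← hf a, ← hf b, hab]
  have h2 := Nat.card_le_card_of_injective f h1
  rwa [Nat.card_prod, Nat.card_fin, Nat.card_fin] at h2

end Cfsg.Agent.H546.S8.HNFive
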