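import Cfsg.Agent.H546.S8.Tools
import Cfsg.Agent.SmallSimple.SelfCentPrime

/-!
# S4908, CHIEF: two commuting pairs (helper546)

* `Pair.two` : two commuting pairs with the same central commutator `z` of order `p`: `|Λ| ≥ m ^ (p ^ 2)`, `m > 1`, `m ≡ 1 mod p`,
  `m ∣ |Λ|`;
* `classes_le_add` : the class number from exceptional classes and a bound of the other centralizers.
-/

set_option autoImplicit false
set_option linter.unusedSectionVars false

namespace Cfsg.Agent.H546.S8

open Subgroup

universe u v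

section

variable {X : Type v} [Group X] {Λ : Type u} [CommGroup Λ] [Finite Λ] {ρ : X →* MulAut Λ} {p : ℕ} [hp : Fact p.Prime]
  {z b w : X}

theorem Pair.inv_WW (P : Pair p z b w) {g : X} (hz : g * z = z * g) (hb : g * b = b * g) {x : Λ} (hx : x ∈ WW P ρ 0) :
    ρ g x ∈ WW P ρ 0 := by
  obtain ⟨h1, h2⟩ := P.mem.1 hx
  refine P.mem.2 ⟨?_, ?_⟩
  · rw [ZMod.val_zero, pow_zero, one_mul] at h1 ⊢
    calc ρ b (ρ g x) = ρ (b * g) x := by rw [map_mul]; rfl
      _ = ρ g (ρ b x) := by rw [← hb, map_mul]; rfl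
      _ = ρ g x := by rw [h1]
  · rw [Nm_comm hz.symm, h2, map_one]

/-- the centralizer of `z` and `b` acts on `W` -/
def actW (P : Pair p z b w) (ρ : X →* MulAut Λ) : centralizer ({z, b} : Set X) →* MulAut (WW P ρ 0) where
  toFun g :=
    { toFun := fun x => ⟨ρ g x, P.inv_WW (mem_centralizer_iff.1 g.2 z (by simp)).symm
        (mem_centralizer_iff.1 g.2 b (by simp)).symm x.2⟩
      invFun := fun x => ⟨ρ (g⁻¹ : X) x, P.inv_WW (mem_centralizer_iff.1 (inv_mem g.2) z (by simp)).symm
        (mem_centralizer_iff.1 (inv_mem g.2) b (by simp)).symm x.2⟩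
      left_inv := fun x => Subtype.ext (by simp)
      right_inv := fun x => Subtype.ext (by simp)
      map_mul' := fun x y => Subtype.ext (by simp) }
  map_one' := by
    ext x
    simp
  map_mul' g h := by
    ext x
    simp

theorem Pair.two {b' w' : X} (P : Pair p z b w) (P' : Pair p z b' w') (hbb : b * b' = b' * b) (hbw : b * w' = w' * b)
    (hc : Nat.Coprime p (Nat.card Λ)) (hz : ∃ x : Λ, ρ z x ≠ x) :
    ∃ m : ℕ, 1 < m ∧ m ≡ 1 [MOD p] ∧ m ∣ Nat.card Λ ∧ m ^ (p * p) ≤ Nat.card Λ := by
  have hcz : z ∈ centralizer ({z, b} : Set X) := by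
    rw [mem_centralizer_iff]
    intro y hy
    rcases hy with rfl | rfl
    · rfl
    · exact P.zb.symm
  have hcb : b' ∈ centralizer ({z, b} : Set X) := by
    rw [mem_centralizer_iff]
    intro y hy
    rcases hy with rfl | rfl
    · exact P'.zb
    · exact hbb
  have hcw : w' ∈ centralizer ({z, b} : Set X) := by
    rw [mem_centralizer_iff]
    intro y hy
    rcases hy with rfl | rfl
    · exact P'.wz.symm
    · exact hbw
  let Q : Pair p (⟨z, hcz⟩ : centralizer ({z, b} : Set X)) ⟨b', hcb⟩ ⟨w', hcw⟩ :=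
    ⟨Subtype.ext P'.zp, Subtype.ext P'.bp, Subtype.ext P'.zb, Subtype.ext P'.wz, Subtype.ext P'.wb⟩
  have h1 := P.pow_le (ρ := ρ) hc
  have h2 := P.ne_bot (ρ := ρ) hc hz
  have hd : Nat.card (WW P ρ 0) ∣ Nat.card Λ := Subgroup.card_subgroup_dvd_card _
  have hc' : Nat.Coprime p (Nat.card (WW P ρ 0)) := hc.coprime_dvd_right hd
  have hz' : ∃ x : WW P ρ 0, actW P ρ ⟨z, hcz⟩ x ≠ x := by
    by_contra hcon
    push Not at hcon
    rw [Finite.one_lt_card_iff_nontrivial] at h2
    obtain ⟨x, hx⟩ := exists_ne (1 : WW P ρ 0)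
    have h3 : ρ z (x : Λ) = x := congrArg Subtype.val (hcon x)
    have h4 := (P.mem.1 x.2).2
    rw [Nm_fix h3] at h4
    exact hx (Subtype.ext (eq_one_of_pow P hc h4))
  have h5 := Q.pow_le (ρ := actW P ρ) hc'
  have h6 := Q.ne_bot (ρ := actW P ρ) hc' hz'
  have h7 := Q.modEq (ρ := actW P ρ) hc'
  refine ⟨_, h6, h7, (Subgroup.card_subgroup_dvd_card _).trans hd, ?_⟩
  rw [pow_mul]
  exact (Nat.pow_le_pow_left h5 p).trans h1

end

theorem card_carrier {G : Type v} [Group G] [Finite G] (g : G) :
    Nat.card (ConjClasses.mk g).carrier * Nat.card (centralizer ({g} : Set G)) = Nat.card G :=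
  Cfsg.Agent.SmallSimple.SelfCentPrime.card_carrier_mul_card_centralizer g

/-- **the class number** from exceptional classes and a bound of the other centralizers -/
theorem classes_le_add {G : Type v} [Group G] [Finite G] {C N : ℕ} (E : Set (ConjClasses G)) (hE : Nat.card E ≤ N)
    (h : ∀ g : G, ConjClasses.mk g ∉ E → Nat.card (centralizer ({g} : Set G)) ≤ C) :
    Nat.card (ConjClasses G) ≤ N + C := by
  classical
  have := Fintype.ofFinite G
  have : Finite (ConjClasses G) := Quotient.finite _
  have := Fintype.ofFinite (ConjClasses G)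
  have h1 : ∀ c : ConjClasses G, c ∉ E → Nat.card G ≤ C * c.carrier.toFinset.card := by
    intro c
    refine Quotient.inductionOn c fun g hg => ?_
    have h2 := h g hg
    have h3 := card_carrier g
    have h4 : Nat.card (ConjClasses.mk g).carrier = (ConjClasses.mk g).carrier.toFinset.card := by
      rw [Nat.card_eq_fintype_card, Set.toFinset_card]
    rw [← h3, h4, mul_comm]
    exact Nat.mul_le_mul_right _ h2
  have h5 : ∑ c : ConjClasses G, c.carrier.toFinset.card = Fintype.card G := sum_conjClasses_card_eq_card G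
  have h6 : (Finset.univ.filter fun c : ConjClasses G => c ∉ E).card * Nat.card G ≤ C * Nat.card G := by
    calc (Finset.univ.filter fun c : ConjClasses G => c ∉ E).card * Nat.card G
        = ∑ _c ∈ Finset.univ.filter fun c : ConjClasses G => c ∉ E, Nat.card G := by rw [Finset.sum_const, smul_eq_mul]
      _ ≤ ∑ c ∈ Finset.univ.filter fun c : ConjClasses G => c ∉ E, C * c.carrier.toFinset.card :=
          Finset.sum_le_sum fun c hc => h1 c (Finset.mem_filter.1 hc).2
      _ ≤ ∑ c : ConjClasses G, C * c.carrier.toFinset.card :=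
          Finset.sum_le_sum_of_subset (Finset.filter_subset _ _)
      _ = C * Nat.card G := by rw [← Finset.mul_sum, h5, Nat.card_eq_fintype_card]
  have h7 : (Finset.univ.filter fun c : ConjClasses G => c ∉ E).card ≤ C := Nat.le_of_mul_le_mul_right h6 Nat.card_pos
  have h8 : (Finset.univ.filter fun c : ConjClasses G => c ∈ E).card ≤ N := by
    rw [← Fintype.card_subtype, ← Nat.card_eq_fintype_card]
    exact hE
  have h9 := Finset.card_filter_add_card_filter_not (s := (Finset.univ : Finset (ConjClasses G))) (fun c => c ∈ E)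
  rw [Nat.card_eq_fintype_card, ← Finset.card_univ]
  omega

end Cfsg.Agent.H546.S8
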